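import Mathlib
import Cfsg.Agent.Lib.Helper55.OOG.Defs

/-!
# OOG (S2413): package [LONG] — the short root elements give the long root elements
-/

set_option autoImplicit false
open scoped Matrix

namespace Cfsg.Agent.Lib.Helper1.OOG

open Cfsg.Agent.Lib.Helper55.OOG

universe u

/-- the commutator of two short root elements is a long root element -/
theorem long_aux (hE : PkgExist.{u}) (hC : PkgComr.{u}) {m : ℕ} {F : Type u} [Field F]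
    (h2 : (2 : F) ≠ 0) (K : Subgroup ↥(Iso m F)) (u u' : Vec m F) (hu : QF m F u = 0)
    (hu' : QF m F u' = 0) (huu' : B u u' = 0) (huT : B u (T0 : Vec m F) = 0)
    (hu'T : B u' (T0 : Vec m F) = 0)
    (hKu : ∀ (c : F) (σ : ↥(Iso m F)), IsSieg u (c • T0) σ → σ ∈ K)
    (hKu' : ∀ (c : F) (σ : ↥(Iso m F)), IsSieg u' (c • T0) σ → σ ∈ K)
    (c : F) (σ : ↥(Iso m F)) (hσ : IsSieg u' (c • u) σ) : σ ∈ K := by
  have hua : B u ((-c / 2) • (T0 : Vec m F)) = 0 := by rw [B_smul_right, huT, mul_zero]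
  have hub : B u ((1 : F) • (T0 : Vec m F)) = 0 := by rw [B_smul_right, huT, mul_zero]
  have hu'a : B u' ((-c / 2) • (T0 : Vec m F)) = 0 := by rw [B_smul_right, hu'T, mul_zero]
  have hu'b : B u' ((1 : F) • (T0 : Vec m F)) = 0 := by rw [B_smul_right, hu'T, mul_zero]
  obtain ⟨σ₁, hσ₁⟩ := hE m F u ((-c / 2) • T0) hu hua
  obtain ⟨τ₁, hτ₁⟩ := hE m F u' ((1 : F) • T0) hu' hu'b
  have hc := hC m F u u' ((-c / 2) • T0) ((1 : F) • T0) hu hu' huu' hua hub hu'a hu'b σ₁ τ₁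
    hσ₁ hτ₁
  have hB : -B ((-c / 2) • (T0 : Vec m F)) ((1 : F) • (T0 : Vec m F)) = c := by
    rw [B_smul_left, B_smul_right, B_T0_T0]
    have : (-c / 2) * (1 * 2) = -c := by
      rw [one_mul, div_mul_cancel₀ _ h2]
    rw [this, neg_neg]
  rw [hB] at hc
  have hσeq : σ = σ₁ * τ₁ * σ₁⁻¹ * τ₁⁻¹ := isSieg_ext hσ hc
  rw [hσeq]
  exact K.mul_mem (K.mul_mem (K.mul_mem (hKu _ _ hσ₁) (hKu' _ _ hτ₁))
    (K.inv_mem (hKu _ _ hσ₁))) (K.inv_mem (hKu' _ _ hτ₁))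

/-- [LONG] -/
theorem pkgLong_of (hE : PkgExist.{u}) (hC : PkgComr.{u}) : PkgLong.{u} := by
  intro m F _ h2 K hS i j hij c σ
  refine ⟨?_, ?_, ?_, ?_⟩
  · exact long_aux hE hC h2 K (E i) (E j) (Q_E i) (Q_E j) (B_E_E i j) (B_E_T0 i) (B_E_T0 j)
      (fun c σ h => (hS i c σ).1 h) (fun c σ h => (hS j c σ).1 h) c σ
  · exact long_aux hE hC h2 K (Fv i) (E j) (Q_Fv i) (Q_E j) (by rw [B_Fv_E, if_neg hij])
      (B_Fv_T0 i) (B_E_T0 j) (fun c σ h => (hS i c σ).2 h) (fun c σ h => (hS j c σ).1 h) c σ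
  · exact long_aux hE hC h2 K (E i) (Fv j) (Q_E i) (Q_Fv j) (by rw [B_E_Fv, if_neg hij])
      (B_E_T0 i) (B_Fv_T0 j) (fun c σ h => (hS i c σ).1 h) (fun c σ h => (hS j c σ).2 h) c σ
  · exact long_aux hE hC h2 K (Fv i) (Fv j) (Q_Fv i) (Q_Fv j) (B_Fv_Fv i j) (B_Fv_T0 i)
      (B_Fv_T0 j) (fun c σ h => (hS i c σ).2 h) (fun c σ h => (hS j c σ).2 h) c σ

end Cfsg.Agent.Lib.Helper1.OOG
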